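import Cfsg.Agent.WalCor.DGrp1
import Cfsg.Agent.Perm.Huppert
import Cfsg.Agent.Solv.ElemAb
import Cfsg.Agent.Known.FinFieldAut
import Cfsg.Agent.S0228
import Cfsg.Prelude.Def_Perm

/-!
Groups in which subgroups of the same prime power order are conjugate: the affine case.
-/

set_option autoImplicit false

open Cfsg Cfsg.Lib.Solv Cfsg.Lib.Known Subgroup
open Cfsg.Lib.Chev.RankOne (TwoRank)

namespace Cfsg.Lib.WalCor

variable {G : Type*} [Group G]

theorem DG.card_le (h : DG G) {F : Type*} [Field F] [Finite F] {p : ℕ} [hp : Fact p.Prime]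
    [CharP F p] (ψ : Multiplicative F →* G) (hψ : Function.Injective ψ)
    (S : Subgroup (RingAut F))
    (hS : ∀ (g : G) (a b x y : F), x ≠ 0 → g * ψ (.ofAdd a) * g⁻¹ = ψ (.ofAdd x) →
      g * ψ (.ofAdd b) * g⁻¹ = ψ (.ofAdd y) → ∃ σ ∈ S, y * σ a = x * σ b) :
    Nat.card F ≤ p + Nat.card S * (p * p * (p + 1)) := by
  let ι : ZMod p →+* F := ZMod.castHom dvd_rfl F
  by_cases hs : Function.Surjective ι
  · have := Nat.card_le_card_of_surjective _ hs
    rw [Nat.card_zmod] at this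
    omega
  obtain ⟨a, ha⟩ : ∃ a, a ∉ Set.range ι := not_forall.1 hs
  let w : F → Multiplicative (ZMod p × ZMod p) →* G := fun t => ψ.comp
    (AddMonoidHom.toMultiplicative (AddMonoidHom.mk' (fun c => ι c.1 + ι c.2 * t) fun c d => by
      simp only [Prod.fst_add, Prod.snd_add, map_add]; ring))
  have hw : ∀ t, t ∉ Set.range ι → Nat.card (w t).range = p ^ 2 := fun t ht => by
    have : Function.Injective (w t) := by
      refine hψ.comp ((injective_iff_map_eq_one _).2 fun c hc => ?_)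
      have h1 : ι c.toAdd.1 + ι c.toAdd.2 * t = 0 := hc
      have h2 : c.toAdd.2 = 0 := by
        by_contra hn
        have h3 : ι c.toAdd.2 ≠ 0 := (map_ne_zero ι).2 hn
        exact ht ⟨-c.toAdd.1 / c.toAdd.2, by
          rw [map_div₀, map_neg, div_eq_iff h3]; linear_combination -h1⟩
      rw [h2, map_zero, zero_mul, add_zero, map_eq_zero] at h1
      exact Prod.ext h1 h2
    rw [← Nat.card_congr (MonoidHom.ofInjective this).toEquiv]
    simp [sq]
  let v : Option (ZMod p) → F := fun o => o.elim 1 fun e => ι e + a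
  let φ : ZMod p ⊕ S × (ZMod p × ZMod p) × Option (ZMod p) → F :=
    Sum.elim ι fun x => x.1.1 ((ι x.2.1.1 + ι x.2.1.2 * a) / v x.2.2)
  have hφ : Function.Surjective φ := fun t => by
    by_cases ht : t ∈ Set.range ι
    · obtain ⟨c, rfl⟩ := ht
      exact ⟨.inl c, rfl⟩
    obtain ⟨g, hg⟩ := h.exists_conj hp.out (IsPGroup.of_card (hw a ha)) (IsPGroup.of_card (hw t ht))
      ((hw a ha).trans (hw t ht).symm)
    obtain ⟨_, ⟨c, rfl⟩, e1⟩ := hg (ψ (.ofAdd 1)) ⟨.ofAdd (1, 0), by simp [w]⟩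
    obtain ⟨_, ⟨d, rfl⟩, e2⟩ := hg (ψ (.ofAdd t)) ⟨.ofAdd (0, 1), by simp [w]⟩
    obtain ⟨σ, hσ, e⟩ := hS g (ι c.toAdd.1 + ι c.toAdd.2 * a) (ι d.toAdd.1 + ι d.toAdd.2 * a) 1 t
      one_ne_zero e1 e2
    have h0 : ι c.toAdd.1 + ι c.toAdd.2 * a ≠ 0 := fun e0 => by
      have h1 : w a c = 1 := by
        change ψ (.ofAdd (ι c.toAdd.1 + ι c.toAdd.2 * a)) = 1
        rw [e0, ofAdd_zero, map_one]
      rw [h1, mul_one, mul_inv_cancel, eq_comm, ← map_one ψ] at e1
      exact one_ne_zero (α := F) (hψ e1)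
    have h1 : t = σ ((ι d.toAdd.1 + ι d.toAdd.2 * a) / (ι c.toAdd.1 + ι c.toAdd.2 * a)) := by
      rw [map_div₀, eq_div_iff ((map_ne_zero σ).2 h0), e, one_mul]
    by_cases h2 : c.toAdd.2 = 0
    · rw [h2, map_zero, zero_mul, add_zero] at h0 h1
      refine ⟨.inr (⟨σ, hσ⟩, (d.toAdd.1 / c.toAdd.1, d.toAdd.2 / c.toAdd.1), none), ?_⟩
      rw [h1]
      simp only [φ, v, Sum.elim_inr, Option.elim_none, map_div₀ ι]
      congr 1
      field_simp
    · have h3 : ι c.toAdd.2 ≠ 0 := (map_ne_zero ι).2 h2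
      refine ⟨.inr (⟨σ, hσ⟩, (d.toAdd.1 / c.toAdd.2, d.toAdd.2 / c.toAdd.2),
        some (c.toAdd.1 / c.toAdd.2)), ?_⟩
      rw [h1]
      simp only [φ, v, Sum.elim_inr, Option.elim_some, map_div₀ ι]
      congr 1
      rw [show ι c.toAdd.1 / ι c.toAdd.2 + a = (ι c.toAdd.1 + ι c.toAdd.2 * a) / ι c.toAdd.2 by
        field_simp]
      field_simp
  have : Finite (RingAut F) := Finite.of_injective _ DFunLike.coe_injective
  have := Nat.card_le_card_of_surjective _ hφ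
  simpa [Finite.card_option] using this

theorem exp_two {f m : ℕ} (hm : Odd m) (hd : m ∣ f) (h : 2 ^ f ≤ 2 + m * (2 * 2 * (2 + 1))) :
    f ≤ 3 ∨ f = 5 ∧ m = 5 := by
  have key : ∀ n, 2 + (n + 7) * 12 < 2 ^ (n + 7) := fun n => by
    induction n with
    | zero => norm_num
    | succ n ih => rw [show n + 1 + 7 = n + 7 + 1 by ring, pow_succ]; omega
  by_cases h7 : 7 ≤ f
  · obtain ⟨n, rfl⟩ := Nat.exists_eq_add_of_le' h7
    have := key n
    have := Nat.le_of_dvd (by omega) hd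
    omega
  by_cases h3 : f ≤ 3
  · exact Or.inl h3
  have h6 : m ≤ 6 := (Nat.le_of_dvd (by omega) hd).trans (by omega)
  have h4 : 4 ≤ f := by omega
  have h5 : f ≤ 6 := by omega
  interval_cases f <;> interval_cases m <;> simp_all (config := {decide := true})

theorem exp_odd {p f m : ℕ} (hp : 3 ≤ p) (hf : Odd f) (hd : m ∣ f)
    (h : p ^ f ≤ p + m * (p * p * (p + 1))) : f = 1 ∨ f = 3 := by
  have key : ∀ n, p + (n + 5) * (p * p * (p + 1)) < p ^ (n + 5) := fun n => by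
    induction n with
    | zero =>
      have h1 : 9 * p ^ 3 ≤ p ^ 5 := by
        rw [show p ^ 5 = p * p * p ^ 3 by ring]
        exact Nat.mul_le_mul_right _ (Nat.mul_le_mul hp hp)
      have h2 : 3 * (p * p) ≤ p ^ 3 := by
        rw [show p ^ 3 = p * (p * p) by ring]
        exact Nat.mul_le_mul_right _ hp
      have h3 : 3 * p ≤ p * p := Nat.mul_le_mul_right _ hp
      rw [zero_add, show 5 * (p * p * (p + 1)) = 5 * p ^ 3 + 5 * (p * p) by ring]
      omega
    | succ n ih =>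
      rw [show n + 1 + 5 = n + 5 + 1 by ring, pow_succ]
      have h1 : p ^ (n + 5) * 3 ≤ p ^ (n + 5) * p := Nat.mul_le_mul_left _ hp
      have h2 : (n + 5 + 1) * (p * p * (p + 1)) ≤ 2 * ((n + 5) * (p * p * (p + 1))) := by
        rw [← mul_assoc 2]
        exact Nat.mul_le_mul_right _ (by omega)
      omega
  by_cases h5 : 5 ≤ f
  · obtain ⟨n, rfl⟩ := Nat.exists_eq_add_of_le' h5
    have := key n
    have := Nat.mul_le_mul_right (p * p * (p + 1)) (Nat.le_of_dvd (by omega) hd)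
    omega
  obtain ⟨k, rfl⟩ := hf
  omega

/-- Data of a split extension acting semilinearly on a field. -/
structure Aff {F : Type*} [Field F] (ψ : Multiplicative F →* G) (H : Subgroup G) : Prop where
  inj : Function.Injective ψ
  dec : ∀ g : G, ∃ b : F, ∃ k ∈ H, g = ψ (.ofAdd b) * k
  disj : ∀ b : F, ψ (.ofAdd b) ∈ H → b = 0
  faith : ∀ k ∈ H, (∀ c : F, k * ψ (.ofAdd c) * k⁻¹ = ψ (.ofAdd c)) → k = 1
  semi : ∀ k ∈ H, ∃ (a : F) (σ : RingAut F), ∀ c : F, k * ψ (.ofAdd c) * k⁻¹ = ψ (.ofAdd (a * σ c))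
  trans : ∀ a : F, a ≠ 0 → ∃ g : G, g * ψ (.ofAdd 1) * g⁻¹ = ψ (.ofAdd a)

namespace Aff

variable {F : Type*} [Field F] {ψ : Multiplicative F →* G} {H : Subgroup G}

theorem conj_eq (b : F) (k : G) {c d : F} (h : k * ψ (.ofAdd c) * k⁻¹ = ψ (.ofAdd d)) :
    ψ (.ofAdd b) * k * ψ (.ofAdd c) * (ψ (.ofAdd b) * k)⁻¹ = ψ (.ofAdd d) := by
  rw [show ψ (.ofAdd b) * k * ψ (.ofAdd c) * (ψ (.ofAdd b) * k)⁻¹ =
    ψ (.ofAdd b) * (k * ψ (.ofAdd c) * k⁻¹) * (ψ (.ofAdd b))⁻¹ by group, h, ← map_mul, mul_comm,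
    map_mul, mul_inv_cancel_right]

theorem semi' (A : Aff ψ H) (g : G) : ∃ (σ : RingAut F) (a : F), a ≠ 0 ∧
    ∀ c : F, g * ψ (.ofAdd c) * g⁻¹ = ψ (.ofAdd (a * σ c)) := by
  obtain ⟨b, k, hk, rfl⟩ := A.dec g
  obtain ⟨a, σ, h⟩ := A.semi k hk
  refine ⟨σ, a, ?_, fun c => conj_eq b k (h c)⟩
  rintro rfl
  have h1 := h 1
  rw [zero_mul, ofAdd_zero, map_one ψ, mul_inv_eq_one, mul_eq_left, ← map_one ψ] at h1
  exact one_ne_zero (α := F) (A.inj h1)

theorem uniq (A : Aff ψ H) {g : G} {σ τ : RingAut F} {a b : F} (ha : a ≠ 0)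
    (h1 : ∀ c : F, g * ψ (.ofAdd c) * g⁻¹ = ψ (.ofAdd (a * σ c)))
    (h2 : ∀ c : F, g * ψ (.ofAdd c) * g⁻¹ = ψ (.ofAdd (b * τ c))) : σ = τ := by
  have h3 : ∀ c, a * σ c = b * τ c := fun c => A.inj ((h1 c).symm.trans (h2 c))
  have h4 := h3 1
  rw [map_one, map_one, mul_one, mul_one] at h4
  ext c
  exact mul_left_cancel₀ ha (by rw [h3, h4])

/-- the field automorphism attached to a group element -/
noncomputable def gal (A : Aff ψ H) : G →* RingAut F :=
  MonoidHom.mk' (fun g => (A.semi' g).choose) fun g k => by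
    obtain ⟨a, ha, h1⟩ := (A.semi' g).choose_spec
    obtain ⟨b, -, h2⟩ := (A.semi' k).choose_spec
    obtain ⟨c, hc, h3⟩ := (A.semi' (g * k)).choose_spec
    refine A.uniq hc h3 (b := a * (A.semi' g).choose b) fun x => ?_
    rw [show g * k * ψ (.ofAdd x) * (g * k)⁻¹ = g * (k * ψ (.ofAdd x) * k⁻¹) * g⁻¹ by group, h2, h1,
      map_mul (A.semi' g).choose, mul_assoc]
    rfl

theorem gal_spec (A : Aff ψ H) (g : G) : ∃ a : F, a ≠ 0 ∧
    ∀ c : F, g * ψ (.ofAdd c) * g⁻¹ = ψ (.ofAdd (a * A.gal g c)) := (A.semi' g).choose_spec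

theorem gal_psi (A : Aff ψ H) (b : F) : A.gal (ψ (.ofAdd b)) = 1 := by
  obtain ⟨a, ha, h⟩ := A.gal_spec (ψ (.ofAdd b))
  refine A.uniq ha h (b := 1) fun c => ?_
  simpa using conj_eq (ψ := ψ) b 1 (c := c) (d := c) (by simp)

theorem card_range_dvd [Finite G] (A : Aff ψ H) : Nat.card A.gal.range ∣ Nat.card H := by
  have : A.gal.range = H.map A.gal := by
    refine le_antisymm ?_ (map_le_range _ _)
    rintro _ ⟨g, rfl⟩
    obtain ⟨b, k, hk, rfl⟩ := A.dec g
    exact ⟨k, hk, by rw [map_mul, A.gal_psi, one_mul]⟩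
  rw [this]
  exact Subgroup.card_map_dvd _ _

theorem exists_hom (A : Aff ψ H) : ∃ ι : G →* Equiv.Perm F, Function.Injective ι ∧
    ∀ (b : F), ∀ k ∈ H, ∀ c d : F, k * ψ (.ofAdd c) * k⁻¹ = ψ (.ofAdd d) →
      ι (ψ (.ofAdd b) * k) c = d + b := by
  let E : F ≃ G ⧸ H := Equiv.ofBijective (fun c => (ψ (.ofAdd c) : G ⧸ H)) ⟨fun c d e => by
    have h1 := QuotientGroup.eq.1 e
    rw [← map_inv, ← map_mul] at h1
    have h2 : -c + d = 0 := A.disj _ h1
    linear_combination -h2, fun q => by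
    obtain ⟨g, rfl⟩ := QuotientGroup.mk_surjective q
    obtain ⟨b, k, hk, rfl⟩ := A.dec g
    exact ⟨b, (QuotientGroup.mk_mul_of_mem _ hk).symm⟩⟩
  let ι : G →* Equiv.Perm F := E.symm.permCongrHom.toMonoidHom.comp (MulAction.toPermHom G (G ⧸ H))
  have hι : ∀ (b : F), ∀ k ∈ H, ∀ c d : F, k * ψ (.ofAdd c) * k⁻¹ = ψ (.ofAdd d) →
      ι (ψ (.ofAdd b) * k) c = d + b := fun b k hk c d e => by
    change E.symm ((ψ (.ofAdd b) * k) • E c) = _
    rw [Equiv.symm_apply_eq]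
    change ((ψ (.ofAdd b) * k * ψ (.ofAdd c) : G) : G ⧸ H) = (ψ (.ofAdd (d + b)) : G)
    rw [add_comm, ofAdd_add, map_mul, ← e, ← mul_assoc, ← mul_assoc,
      QuotientGroup.mk_mul_of_mem _ (inv_mem hk)]
  refine ⟨ι, (injective_iff_map_eq_one _).2 fun g hg => ?_, hι⟩
  obtain ⟨b, k, hk, rfl⟩ := A.dec g
  obtain ⟨a, σ, h⟩ := A.semi k hk
  have h1 : ∀ c, c = a * σ c + b := fun c => by rw [← hι b k hk c _ (h c), hg]; rfl
  have h2 : b = 0 := by simpa using (h1 0).symm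
  rw [A.faith k hk fun c => by rw [h c, ← add_zero (a * σ c), ← h2, ← h1], h2]
  simp

theorem equiv_cases [Finite F] (A : Aff ψ H) (hq : (Nat.card F - 1).Prime)
    (hlt : Nat.card (RingAut F) < Nat.card F - 1) :
    (A.gal.range = ⊥ → Nonempty (G ≃* affineGroup F)) ∧
      (A.gal.range = ⊤ → Nonempty (G ≃* semiaffineGroup F)) := by
  obtain ⟨ι, hι, h⟩ := A.exists_hom
  have h1 : ∀ g : G, ∃ a b : F, a ≠ 0 ∧ ∀ c, ι g c = a * A.gal g c + b := fun g => by
    obtain ⟨b, k, hk, rfl⟩ := A.dec g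
    obtain ⟨a, ha, e⟩ := A.gal_spec k
    exact ⟨a, b, ha, fun c => by rw [h b k hk c _ (e c), map_mul, A.gal_psi, one_mul]⟩
  have h2 : ∀ b c : F, ι (ψ (.ofAdd b)) c = c + b := fun b c => by
    simpa using h b 1 H.one_mem c c (by simp)
  have h3 : ∀ a : Fˣ, ∃ g : G, ∀ c, ι g c = a * A.gal g c := fun a => by
    obtain ⟨g, hg⟩ := A.trans a a.ne_zero
    obtain ⟨b, k, hk, rfl⟩ := A.dec g
    obtain ⟨a', -, e⟩ := A.gal_spec k
    have e1 : a' * A.gal k 1 = a := A.inj ((conj_eq b k (e 1)).symm.trans hg)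
    rw [map_one, mul_one] at e1
    exact ⟨k, fun c => by simpa [e1] using h 0 k hk c _ (e c)⟩
  let M : Subgroup Fˣ :=
    { carrier := {a | ∃ g : G, ∀ c, ι g c = a * c}
      mul_mem' := by
        rintro a b ⟨g, hg⟩ ⟨k, hk⟩
        exact ⟨g * k, fun c => by rw [map_mul, Equiv.Perm.mul_apply, hk, hg, Units.val_mul, mul_assoc]⟩
      one_mem' := ⟨1, by simp⟩
      inv_mem' := by
        rintro a ⟨g, hg⟩
        exact ⟨g⁻¹, fun c => by rw [map_inv, Equiv.Perm.inv_eq_iff_eq, hg, Units.mul_inv_cancel_left]⟩ }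
  have hM : M = ⊤ := by
    have : Fact (Nat.card Fˣ).Prime := ⟨by rwa [Nat.card_units]⟩
    refine (M.eq_bot_or_eq_top_of_prime_card).resolve_left fun e => ?_
    choose g hg using h3
    have : Finite (RingAut F) := Finite.of_injective _ DFunLike.coe_injective
    refine hlt.not_ge ?_
    rw [← Nat.card_units]
    refine Nat.card_le_card_of_injective (fun a => A.gal (g a)) fun a b e' => ?_
    have h4 : a * b⁻¹ ∈ M := ⟨g a * (g b)⁻¹, fun c => by
      obtain ⟨d, rfl⟩ := (ι (g b)).surjective c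
      rw [map_mul, map_inv, Equiv.Perm.mul_apply, Equiv.Perm.coe_inv, Equiv.symm_apply_apply, hg, hg,
        show A.gal (g a) = A.gal (g b) from e', Units.val_mul, mul_assoc, Units.inv_mul_cancel_left]⟩
    rwa [e, mem_bot, mul_inv_eq_one] at h4
  have h5 : ∀ (a : Fˣ) (b : F) (g : G), ∃ k : G, ∀ c, ι k c = a * A.gal g c + b := fun a b g => by
    obtain ⟨a', b', ha', e⟩ := h1 g
    obtain ⟨k, hk⟩ : a * (Units.mk0 a' ha')⁻¹ ∈ M := hM ▸ mem_top _
    refine ⟨ψ (.ofAdd b) * k * ψ (.ofAdd (-b')) * g, fun c => ?_⟩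
    simp only [map_mul ι, Equiv.Perm.mul_apply, h2, hk, e, Units.val_mul, Units.val_inv_eq_inv_val,
      Units.val_mk0]
    field_simp
    ring
  constructor
  · intro e
    have h6 : ∀ g, A.gal g = 1 := fun g => mem_bot.1 (e ▸ ⟨g, rfl⟩)
    refine ⟨(MonoidHom.ofInjective hι).trans (MulEquiv.subgroupCongr (le_antisymm ?_ ?_))⟩
    · rintro _ ⟨g, rfl⟩
      obtain ⟨a, b, ha, e⟩ := h1 g
      exact ⟨Units.mk0 a ha, b, fun c => by simp [e, h6]⟩
    · rintro s ⟨a, b, hs⟩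
      obtain ⟨k, hk⟩ := h5 a b 1
      exact ⟨k, Equiv.ext fun c => by simp [hk, hs]⟩
  · intro e
    refine ⟨(MonoidHom.ofInjective hι).trans (MulEquiv.subgroupCongr (le_antisymm ?_ ?_))⟩
    · rintro _ ⟨g, rfl⟩
      obtain ⟨a, b, ha, e⟩ := h1 g
      exact ⟨Units.mk0 a ha, b, A.gal g, e⟩
    · rintro s ⟨a, b, φ, hs⟩
      obtain ⟨g, rfl⟩ : φ ∈ A.gal.range := e ▸ mem_top _
      obtain ⟨k, hk⟩ := h5 a b g
      exact ⟨k, Equiv.ext fun c => by rw [hk, hs]⟩

end Aff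

theorem DG.exists_aff [Finite G] (h : DG G) (hO : oddCore G = ⊥) {N : Subgroup G} [hN : N.Normal]
    (hi : Odd N.index) (h2 : ∀ y ∈ N, y * y = 1) {n : ℕ} (hn : n ≠ 0) (hc : Nat.card N = 2 ^ n) :
    ∃ (ψ : Multiplicative (GaloisField 2 n) →* G) (H : Subgroup G), Aff ψ H ∧
      Nat.card H = N.index ∧ Nat.card H ∣ Nat.card (MulAut N) := by
  have hE : ElemAb 2 N := ⟨fun a b => by
    have key : ∀ x : N, x * x = 1 := fun x => Subtype.ext (h2 x x.2)
    rw [← inv_eq_of_mul_eq_one_right (key (a * b)), mul_inv_rev, inv_eq_of_mul_eq_one_right (key a),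
      inv_eq_of_mul_eq_one_right (key b)], fun a => Subtype.ext (by simpa [sq] using h2 a a.2)⟩
  have hcm : ∀ x ∈ N, ∀ y ∈ N, x * y = y * x := fun x hx y hy =>
    congrArg Subtype.val (hE.comm ⟨x, hx⟩ ⟨y, hy⟩)
  obtain ⟨H, hH⟩ := exists_right_complement'_of_coprime (N := N)
    (by rw [hc]; exact (hi.coprime_two_left).pow_left _)
  have hcH : Nat.card H = N.index := hH.symm.index_eq_card.symm
  have dec : ∀ g : G, ∃ x ∈ N, ∃ k ∈ H, g = x * k := fun g => by
    obtain ⟨⟨x, k⟩, e⟩ := hH.2 g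
    exact ⟨x, x.2, k, k.2, e.symm⟩
  have hfaith : H ⊓ centralizer (N : Set G) = ⊥ := by
    refine le_bot_iff.1 (hO ▸ le_pPrimeCore ⟨fun y hy g => ⟨?_, ?_⟩⟩ ?_)
    · obtain ⟨x, hx, k, hk, rfl⟩ := dec g
      have h1 : k * y * k⁻¹ ∈ centralizer (N : Set G) := Normal.conj_mem inferInstance y hy.2 k
      rw [show x * k * y * (x * k)⁻¹ = x * (k * y * k⁻¹) * x⁻¹ by group, h1 x hx,
        mul_inv_cancel_right]
      exact H.mul_mem (H.mul_mem hk hy.1) (H.inv_mem hk)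
    · exact Normal.conj_mem inferInstance y hy.2 g
    · exact (hcH ▸ hi).coprime_two_right.coprime_dvd_left (card_dvd_of_le inf_le_left)
  have hle : H ≤ normalizer (N : Set G) := by rw [normalizer_eq_top]; exact le_top
  have hinj : Function.Injective (conjAutOf N H hle) := by
    rw [injective_iff_map_eq_one]
    intro k hk
    exact Subtype.ext (mem_bot.1 (hfaith ▸ ⟨k.2, (mem_ker_conjAutOf hle).1 hk⟩))
  have : Nontrivial N := by
    rw [← Finite.one_lt_card_iff_nontrivial, hc]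
    exact Nat.one_lt_two_pow hn
  let ρ := (Vec.autEquiv 2 N).toMonoidHom.comp (conjAutOf N H hle)
  have hord : ∀ x : N, x ≠ 1 → orderOf (x : G) = 2 := fun x hx =>
    Bender.orderOf_eq_two (fun e => hx (Subtype.ext e)) (h2 x x.2)
  have htr : Perm.VTrans ρ := fun v w hv hw => by
    obtain ⟨g, hg⟩ := h.conj_invol (hord (Vec.toMul v) hv) (hord (Vec.toMul w) hw)
    obtain ⟨x, hx, k, hk, rfl⟩ := dec g
    refine ⟨⟨k, hk⟩, Vec.toMul.injective (Subtype.ext ?_)⟩
    rw [← hg, show x * k * (Vec.toMul v : N) * (x * k)⁻¹ = x * (k * (Vec.toMul v : N) * k⁻¹) * x⁻¹ by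
      group, hcm x hx _ (hN.conj_mem _ (Vec.toMul v).2 k), mul_inv_cancel_right]
    rfl
  rcases htr.huppert ((Vec.autEquiv 2 N).injective.comp hinj)
    (FT.odd_order_solvable (hcH ▸ hi)) with ⟨F, _, _, e, he⟩ | h3
  swap
  · rw [Vec.card_vec, hc] at h3
    have h4 : 2 ∣ 2 ^ n := dvd_pow_self 2 hn
    simp only [Set.mem_insert_iff, Set.mem_singleton_iff] at h3
    omega
  have := Fintype.ofFinite (GaloisField 2 n)
  have τ : F ≃+* GaloisField 2 n := FiniteField.ringEquivOfCardEq (by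
    rw [← Nat.card_eq_fintype_card, ← Nat.card_eq_fintype_card, GaloisField.card 2 n hn,
      ← Nat.card_congr e.toEquiv, Vec.card_vec, hc])
  let e' : Vec 2 N ≃+ GaloisField 2 n := e.trans τ.toAddEquiv
  let ψ : Multiplicative (GaloisField 2 n) →* G :=
    MonoidHom.mk' (fun c => (Vec.toMul (e'.symm c.toAdd) : N)) fun a b => by simp
  have hψ : ∀ x : N, ψ (.ofAdd (e' (Vec.ofMul 2 x))) = x := fun x => by simp [ψ]
  have hψN : ∀ c, ψ c ∈ N := fun c => (Vec.toMul (e'.symm c.toAdd)).2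
  have hψi : Function.Injective ψ := fun a b e =>
    Multiplicative.toAdd.injective (e'.symm.injective (Vec.toMul.injective (Subtype.ext e)))
  refine ⟨ψ, H, ⟨hψi, fun g => ?_, fun b hb => ?_, fun k hk e => ?_, fun k hk => ?_,
    fun a ha => ?_⟩, hcH, card_dvd_of_injective _ hinj⟩
  · obtain ⟨x, hx, k, hk, rfl⟩ := dec g
    exact ⟨_, k, hk, by rw [hψ ⟨x, hx⟩]⟩
  · exact hψi ((mem_bot.1 (hH.disjoint.le_bot ⟨hψN _, hb⟩)).trans (map_one ψ).symm)
  · refine mem_bot.1 (hfaith ▸ ⟨hk, fun x hx => ?_⟩)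
    have := e (e' (Vec.ofMul 2 ⟨x, hx⟩))
    rw [hψ, mul_inv_eq_iff_eq_mul] at this
    exact this.symm
  · obtain ⟨a, σ, e1⟩ := he ⟨k, hk⟩
    refine ⟨τ a, τ.symm.trans (σ.trans τ), fun c => ?_⟩
    have e2 : τ a * (τ.symm.trans (σ.trans τ)) c = e' (ρ ⟨k, hk⟩ (e'.symm c)) := by
      simp [e', e1]
    rw [e2]
    simp only [ψ, MonoidHom.mk'_apply, toAdd_ofAdd, AddEquiv.symm_apply_apply]
    rfl
  · have key : ∀ c : GaloisField 2 n, c ≠ 0 → orderOf (ψ (.ofAdd c)) = 2 := fun c hc =>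
      Bender.orderOf_eq_two (fun e => hc (hψi (e.trans (map_one ψ).symm))) (h2 _ (hψN _))
    exact h.conj_invol (key 1 one_ne_zero) (key a ha)

/-- The case of a normal Sylow 2-subgroup. -/
theorem DG.affine_case [Finite G] (h : DG G) (hO : oddCore G = ⊥) (h4 : TwoRank G)
    {N : Subgroup G} [hN : N.Normal] (hi : Odd N.index) (h1 : ∀ y : G, y * y = 1 → y ∈ N)
    (h2 : ∀ y ∈ N, y * y = 1) :
    Nonempty (G ≃* alternatingGroup (Fin 4)) ∨ 8 ∣ Nat.card G ∧
      (Nonempty (G ≃* affineGroup (GaloisField 2 3)) ∨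
        Nonempty (G ≃* semiaffineGroup (GaloisField 2 3)) ∨
        Nonempty (G ≃* semiaffineGroup (GaloisField 2 5))) := by
  obtain ⟨x, y, hx, hy, hxy, hc⟩ := Bender.twoRank_iff.1 h4
  obtain ⟨n, hn⟩ := IsPGroup.iff_card.1 (show IsPGroup 2 N from fun a =>
    ⟨1, Subtype.ext (by simpa [sq] using h2 a a.2)⟩)
  have hn2 : 2 ≤ n := by
    have h3 := card_dvd_of_le (show closure {x, y} ≤ N from fun a ha =>
      h1 a ((Bender.four_group hx hy hxy hc).2.2.1 a ha))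
    rw [card_four hx hy hxy hc, hn] at h3
    exact (Nat.pow_dvd_pow_iff_le_right one_lt_two).1 (show 2 ^ 2 ∣ _ from h3)
  obtain ⟨ψ, H, A, hH, hd⟩ := h.exists_aff hO hi h2 (by omega) hn
  have := Fintype.ofFinite (GaloisField 2 n)
  have hF := GaloisField.card 2 n (by omega)
  have hA : Nat.card (RingAut (GaloisField 2 n)) = n :=
    card_ringAut (p := 2) (by rw [← Nat.card_eq_fintype_card, hF])
  have hodd : Odd (Nat.card A.gal.range) := (hH ▸ hi).of_dvd_nat A.card_range_dvd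
  have hdvd : Nat.card A.gal.range ∣ n := (card_subgroup_dvd_card _).trans hA.dvd
  have hle := h.card_le (p := 2) ψ A.inj A.gal.range fun g a b x y _ e1 e2 => by
    obtain ⟨c, -, e⟩ := A.gal_spec g
    have e3 : c * A.gal g a = x := A.inj ((e a).symm.trans e1)
    have e4 : c * A.gal g b = y := A.inj ((e b).symm.trans e2)
    exact ⟨_, ⟨g, rfl⟩, by rw [← e3, ← e4]; ring⟩
  rw [hF] at hle
  have h8 : 3 ≤ n → 8 ∣ Nat.card G := fun h3 =>
    (hn ▸ pow_dvd_pow 2 h3 : 2 ^ 3 ∣ Nat.card N).trans (card_subgroup_dvd_card N)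
  have : Finite (RingAut (GaloisField 2 n)) := Finite.of_injective _ DFunLike.coe_injective
  rcases exp_two hodd hdvd hle with h3 | ⟨rfl, h5⟩
  · obtain rfl | rfl : n = 2 ∨ n = 3 := by omega
    · left
      have hne : ∀ z : G, orderOf z = 2 → z ∉ center G := fun z hz hz' => hxy (by
        obtain ⟨g, rfl⟩ := h.conj_invol hz hx
        obtain ⟨k, rfl⟩ := h.conj_invol hz hy
        rw [mem_center_iff.1 hz' g, mem_center_iff.1 hz' k]
        simp)
      refine Agent.S0228.result ?_ hne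
      have hE : ElemAb 2 N := ⟨fun a b => Subtype.ext
        (h.comm_of_pgroup h4 (IsPGroup.of_card hn) a.2 b.2),
        fun a => Subtype.ext (by simpa [sq] using h2 a a.2)⟩
      rw [Vec.card_mulAut hn, hH] at hd
      have h6 : N.index ≠ 1 := fun e => hne x hx (mem_center_iff.2 fun g => by
        rw [index_eq_one] at e
        exact h.comm_of_pgroup h4 (IsPGroup.of_card hn) (e ▸ mem_top g) (e ▸ mem_top x))
      have h7 : N.index ∣ 6 := by simpa using hd
      have h9 := Nat.le_of_dvd (by norm_num) h7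
      rw [← N.card_mul_index, hn]
      generalize N.index = m at *
      interval_cases m <;> simp_all (config := {decide := true})
    · have h6 := A.equiv_cases (by rw [hF]; norm_num) (by rw [hF, hA]; norm_num)
      have : Fact (Nat.card (RingAut (GaloisField 2 3))).Prime := ⟨by rw [hA]; norm_num⟩
      exact Or.inr ⟨h8 le_rfl, A.gal.range.eq_bot_or_eq_top_of_prime_card.imp h6.1
        fun e => Or.inl (h6.2 e)⟩
  · exact Or.inr ⟨h8 (by norm_num), Or.inr (Or.inr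
      ((A.equiv_cases (by rw [hF]; norm_num) (by rw [hF, hA]; norm_num)).2
        (eq_top_of_card_eq _ (h5.trans hA.symm))))⟩

end Cfsg.Lib.WalCor
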