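import Cfsg.Agent.Known.SL2Sylow
import Cfsg.Agent.Known.PSL2Sizes
import Cfsg.Agent.Known.FinFieldAut
import Cfsg.Agent.Recog.CycNormAut

/-!
An automorphism of `L₂(q)` of odd prime power order fixing a Sylow subgroup for the same prime is inner.
-/

set_option autoImplicit false

open Cfsg Cfsg.Lib.Known Cfsg.Lib.Known.GL2 Matrix

namespace Cfsg.Lib.WalCor

variable {F : Type*} [Field F]

theorem mul_eq_of_conjSL {g : GL (Fin 2) F} {s s' : SL2 F} (h : conjSL (Fin 2) F g s = s') :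
    (g : M2 F) * (s : M2 F) = (s' : M2 F) * (g : M2 F) := by
  rw [← h, coe_conjSL, Matrix.mul_assoc, ← Units.val_mul, inv_mul_cancel, Units.val_one,
    Matrix.mul_one]

theorem mat_of_fix {g : GL (Fin 2) F} {σ : RingAut F} {s : SL2 F} {n : ℕ} (hn : Odd n)
    (hs : s ^ n = 1) (h : (innD (Fin 2) F g * fieldAut (Fin 2) F σ) (piSL F s) = piSL F s) :
    conjSL (Fin 2) F g (fieldSL (Fin 2) F σ s) = s := by
  rcases piSL_eq_iff.1 h with e | e
  · exact e
  · have e0 : conjSL (Fin 2) F g (fieldSL (Fin 2) F σ s) = -s := e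
    have e1 := congrArg (· ^ n) e0
    simp only [← map_pow, hs, map_one] at e1
    rw [← neg_one_mul, (Commute.neg_one_left s).mul_pow, hs, mul_one, hn.neg_one_pow] at e1
    rw [e0, ← neg_one_mul, ← e1, one_mul]

theorem trace_fixed {g : GL (Fin 2) F} {σ : RingAut F} {s : SL2 F}
    (h1 : conjSL (Fin 2) F g (fieldSL (Fin 2) F σ s) = s) :
    σ ((slLin F).ρ s).trace = ((slLin F).ρ s).trace := by
  have h2 := congrArg (fun x : SL2 F => ((slLin F).ρ x).trace) h1
  simp only [slLin_ρ] at h2 ⊢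
  rw [coe_conjSL, Matrix.trace_mul_cycle, ← Units.val_mul, inv_mul_cancel, Units.val_one,
    Matrix.one_mul, coe_fieldSL, trace_fin_two] at h2
  refine Eq.trans ?_ h2
  rw [trace_fin_two, map_add]
  rfl

theorem orderOf_dvd_of_trace [Fintype F] (K : Subfield F) {s : SL2 F}
    (hd : disc ((slLin F).ρ s) ≠ 0) (hs : ((slLin F).ρ s).trace ∈ K) :
    orderOf s ∣ Nat.card K * (Nat.card K - 1) * (Nat.card K + 1) := by
  let _ := Fintype.ofFinite K
  let c : SL2 K := ⟨!![0, -1; 1, ⟨_, hs⟩], by simp [det_fin_two]⟩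
  have h0 : ((slLin F).ρ (SpecialLinearGroup.map K.subtype c)).trace = ((slLin F).ρ s).trace := by
    rw [trace_fin_two]
    exact zero_add _
  have h1 : IsConj s (SpecialLinearGroup.map K.subtype c) :=
    (slLin F).isConj_of_trace_det hd h0.symm (by rw [det_SL, det_SL])
  rw [orderOf_eq_of_isConj h1, Nat.card_eq_fintype_card, ← card_SL_two]
  exact (orderOf_map_dvd _ c).trans (orderOf_dvd_natCard c)

theorem pow_succ_dvd {r a y j : ℕ} (ha : a ≠ 0) (hj : j ≠ 0) (hy : 1 ≤ y) (h : r ^ a ∣ y - 1) :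
    r ^ (a + 1) ∣ y ^ r ^ j - 1 := by
  have h1 : (r : ℤ) ^ a ∣ (y : ℤ) - 1 := by
    have := Int.natCast_dvd_natCast.2 h
    rwa [Nat.cast_sub hy, Nat.cast_pow, Nat.cast_one] at this
  have h2 : (r : ℤ) ∣ ∑ i ∈ Finset.range r, (y : ℤ) ^ i := by
    simpa using dvd_geom_sum₂_self ((dvd_pow_self _ ha).trans h1)
  have h3 : (r : ℤ) ^ (a + 1) ∣ (y : ℤ) ^ r - 1 := by
    rw [← geom_sum_mul, pow_succ']
    exact mul_dvd_mul h2 h1
  obtain ⟨j, rfl⟩ := Nat.exists_eq_succ_of_ne_zero hj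
  have h4 : (y : ℤ) ^ r - 1 ∣ (y : ℤ) ^ r ^ (j + 1) - 1 := by
    rw [pow_succ', pow_mul]
    simpa using sub_dvd_pow_sub_pow ((y : ℤ) ^ r) 1 (r ^ j)
  rw [← Int.natCast_dvd_natCast, Nat.cast_sub (Nat.one_le_pow _ _ hy)]
  push_cast
  exact h3.trans h4

theorem exists_orderOf_of_dvd [Fintype F] {r a : ℕ} (hr : r.Prime) (h2 : r ≠ 2)
    (h : r ^ a ∣ (Fintype.card F - 1) * (Fintype.card F + 1)) : ∃ s : SL2 F, orderOf s = r ^ a := by
  have h1 := Fintype.one_lt_card (α := F)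
  by_cases hq : r ∣ Fintype.card F + 1
  · have h3 : ¬ r ∣ Fintype.card F - 1 := fun h3 => h2 <|
      (Nat.prime_dvd_prime_iff_eq hr Nat.prime_two).1 <| by
        have := Nat.dvd_sub hq h3
        rwa [show Fintype.card F + 1 - (Fintype.card F - 1) = 2 by omega] at this
    obtain ⟨s, -, hs⟩ := exists_isEll_orderOf (F := F)
    refine ⟨_, orderOf_pow_orderOf_div (x := s) (by omega) ?_⟩
    rw [hs]
    exact (((hr.coprime_iff_not_dvd).2 h3).pow_left a).dvd_of_dvd_mul_left h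
  · obtain ⟨s, -, hs⟩ := exists_mem_T_orderOf (F := F)
    refine ⟨_, orderOf_pow_orderOf_div (x := s) (by omega) ?_⟩
    rw [hs]
    exact (((hr.coprime_iff_not_dvd).2 hq).pow_left a).dvd_of_dvd_mul_right h

variable [Fintype F]

theorem exists_fix_of_isPGroup {r : ℕ} [Fact r.Prime] {g : GL (Fin 2) F} {σ : RingAut F}
    (R : Sylow r (PSL2 F))
    (hR : ∀ x ∈ (R : Subgroup (PSL2 F)), (innD (Fin 2) F g * fieldAut (Fin 2) F σ) x = x)
    {X : Subgroup (PSL2 F)} (hX : IsPGroup r X) :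
    ∃ g', ∀ x ∈ X, (innD (Fin 2) F g' * fieldAut (Fin 2) F σ) x = x := by
  obtain ⟨Q, hQ⟩ := hX.exists_le_sylow
  obtain ⟨h, rfl⟩ := MulAction.exists_smul_eq (PSL2 F) R Q
  obtain ⟨φ, hφ, hφ'⟩ := exists_outer_hom_two (F := F)
  have hi : ∀ g, φ (innD (Fin 2) F g) = 1 := fun g => by
    rw [← MonoidHom.mem_ker, hφ]; exact ⟨g, rfl⟩
  have hc : φ (MulAut.conj h) = 1 := by
    obtain ⟨s, rfl⟩ := QuotientGroup.mk_surjective h
    rw [← innD_toGL, hi]
  obtain ⟨g', σ', e⟩ := PSL_aut_eq_two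
    (MulAut.conj h * (innD (Fin 2) F g * fieldAut (Fin 2) F σ) * (MulAut.conj h)⁻¹)
  have e1 := congrArg φ e
  simp only [map_mul, map_inv, hc, hi, hφ', one_mul, inv_one, mul_one] at e1
  refine ⟨g', fun x hx => ?_⟩
  have h1 := hQ hx
  rw [Sylow.coe_subgroup_smul, Subgroup.mem_pointwise_smul_iff_inv_smul_mem] at h1
  rw [e1, ← e, MulAut.mul_apply, MulAut.mul_apply, ← MulAut.smul_def (MulAut.conj h)⁻¹, hR _ h1,
    ← MulAut.smul_def, smul_inv_smul]

theorem field_eq_one {r k : ℕ} [hr : Fact r.Prime] (h2 : r ≠ 2) (hd : r ∣ Nat.card (PSL2 F))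
    {g : GL (Fin 2) F} {σ : RingAut F} (hσ : σ ^ r ^ k = 1) (R : Sylow r (PSL2 F))
    (hR : ∀ x ∈ (R : Subgroup (PSL2 F)), (innD (Fin 2) F g * fieldAut (Fin 2) F σ) x = x) :
    σ = 1 := by
  have ho := hr.out.odd_of_ne_two h2
  obtain ⟨p, hp⟩ := CharP.exists F
  have hpp := CharP.char_is_prime F p
  obtain ⟨⟨n, hn⟩, -, hq⟩ := FiniteField.card F p
  by_cases hrp : r = p
  · subst hrp
    have hu : ∀ c : F, (slLin F).u c ^ r = 1 := fun c => by
      have : ∀ m : ℕ, (slLin F).u c ^ m = (slLin F).u (m * c) := fun m => by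
        induction m with
        | zero => simp [Lin2.u_zero]
        | succ m ih => rw [pow_succ, ih, ← Lin2.u_add]; congr 1; push_cast; ring
      rw [this, CharP.cast_eq_zero, zero_mul, Lin2.u_zero]
    let f : Multiplicative F →* PSL2 F := MonoidHom.mk' (fun c => piSL F ((slLin F).u c.toAdd))
      fun a b => by rw [toAdd_mul, Lin2.u_add, map_mul]
    obtain ⟨g', hg'⟩ := exists_fix_of_isPGroup R hR (X := f.range) (by
      rintro ⟨_, c, rfl⟩
      exact ⟨1, Subtype.ext (by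
        change piSL F _ ^ r ^ 1 = 1
        rw [pow_one, ← map_pow, hu, map_one])⟩)
    have h1 : ∀ c : F, (g' : M2 F) * !![1, σ c; 0, 1] = !![1, c; 0, 1] * (g' : M2 F) := fun c => by
      have h1 := mul_eq_of_conjSL (mat_of_fix ho (hu c) (hg' _ ⟨Multiplicative.ofAdd c, rfl⟩))
      rw [coe_fieldSL, ← slLin_ρ, Lin2.ρ_u] at h1
      convert h1 using 2
      ext i j; fin_cases i <;> fin_cases j <;> simp
    have h3 := h1 1
    have a1 : (g' : M2 F) 1 0 = 0 := by
      simpa [mul_apply, Fin.sum_univ_two] using congrFun (congrFun h3 0) 0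
    have a2 : (g' : M2 F) 0 0 = (g' : M2 F) 1 1 := by
      have := congrFun (congrFun h3 0) 1
      simp [mul_apply, Fin.sum_univ_two] at this
      linear_combination this
    have a3 : (g' : M2 F) 1 1 ≠ 0 := fun e => g'.det_ne_zero (by rw [det_fin_two, a1, e]; ring)
    ext c
    have := congrFun (congrFun (h1 c) 0) 1
    simp [mul_apply, Fin.sum_univ_two] at this
    apply mul_left_cancel₀ a3
    rw [a2] at this
    change _ = _ * c
    linear_combination this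
  obtain ⟨j, -, hj⟩ := (Nat.dvd_prime_pow hr.out).1 (orderOf_dvd_of_pow_eq_one hσ)
  by_contra hne
  have hj0 : j ≠ 0 := fun e => hne (orderOf_eq_one_iff.1 (by rw [hj, e, pow_zero]))
  have h1 := Fintype.one_lt_card (α := F)
  have hrq : r.Coprime (Fintype.card F) := by
    rw [hq]; exact ((Nat.coprime_primes hr.out hpp).2 hrp).pow_right _
  have hN : (Fintype.card F - 1) * (Fintype.card F + 1) ≠ 0 := mul_ne_zero (by omega) (by omega)
  have h3 : r ∣ (Fintype.card F - 1) * (Fintype.card F + 1) := by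
    refine hrq.dvd_of_dvd_mul_left ?_
    rw [← mul_assoc, ← card_SL_two, ← card_Z_mul_card_PSL2]
    exact hd.mul_left _
  set a := ((Fintype.card F - 1) * (Fintype.card F + 1)).factorization r with ha
  have ha0 : a ≠ 0 := (hr.out.factorization_pos_of_dvd hN h3).ne'
  obtain ⟨s, hs⟩ := exists_orderOf_of_dvd (F := F) (a := a) hr.out h2 (Nat.ordProj_dvd _ _)
  have hs1 : s ^ r ^ a = 1 := hs ▸ pow_orderOf_eq_one s
  obtain ⟨g', hg'⟩ := exists_fix_of_isPGroup R hR (X := Subgroup.zpowers (piSL F s))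
    (isPGroup_zpowers_of_pow (k := a) (by rw [← map_pow, hs1, map_one]))
  have h4 := trace_fixed (mat_of_fix ho.pow hs1 (hg' _ (Subgroup.mem_zpowers _)))
  have h5 := orderOf_dvd_of_trace (fixedSubfield σ) ((slLin F).disc_ne_zero_of_not_dvd p
    (by rw [hs]; exact fun e => hrp ((Nat.prime_dvd_prime_iff_eq hpp hr.out).1
          (hpp.dvd_of_dvd_pow e)).symm)
    (not_mem_Z_of_orderOf_SL (by
      rw [hs]; exact fun e => h2 ((Nat.prime_dvd_prime_iff_eq hr.out Nat.prime_two).1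
        ((dvd_pow_self r ha0).trans e))))) (mem_fixedSubfield.2 h4)
  have h6 := card_fixedSubfield_pow σ
  rw [hj, Nat.card_eq_fintype_card (α := F)] at h6
  have h7 : 1 ≤ Nat.card (fixedSubfield σ) := Nat.card_pos
  generalize Nat.card (fixedSubfield σ) = y at h5 h6 h7
  have h8 : r.Coprime y := by
    rw [← h6] at hrq
    exact hrq.coprime_dvd_right (dvd_pow_self _ (pow_pos hr.out.pos _).ne')
  rw [hs, mul_assoc] at h5
  have h9 := pow_succ_dvd ha0 hj0 (y := y ^ 2) (Nat.one_le_pow _ _ h7)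
    (by rw [show y ^ 2 - 1 = (y - 1) * (y + 1) by rw [mul_comm, ← Nat.sq_sub_sq]]
        exact (h8.pow_left a).dvd_of_dvd_mul_left h5)
  rw [← pow_mul, mul_comm, pow_mul, h6,
    show Fintype.card F ^ 2 - 1 = (Fintype.card F - 1) * (Fintype.card F + 1) by
      rw [mul_comm, ← Nat.sq_sub_sq]] at h9
  exact Nat.pow_succ_factorization_not_dvd hN hr.out h9

theorem mem_inn_of_fix {r k : ℕ} [hr : Fact r.Prime] (h2 : r ≠ 2) (hd : r ∣ Nat.card (PSL2 F))
    {β : MulAut (PSL2 F)} (hβ : β ^ r ^ k = 1) (R : Sylow r (PSL2 F))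
    (hR : ∀ x ∈ (R : Subgroup (PSL2 F)), β x = x) : β ∈ Inn (PSL2 F) := by
  obtain ⟨g, σ, rfl⟩ := PSL_aut_eq_two β
  obtain ⟨φ, hφ, hφ'⟩ := exists_outer_hom_two (F := F)
  have hi : φ (innD (Fin 2) F g) = 1 := by rw [← MonoidHom.mem_ker, hφ]; exact ⟨g, rfl⟩
  have h1 := congrArg φ hβ
  rw [map_pow, map_mul, hi, hφ', one_mul, map_one] at h1
  obtain rfl := field_eq_one h2 hd h1 R hR
  rw [map_one, mul_one] at hβ ⊢
  obtain ⟨m, hm⟩ := (hr.out.odd_of_ne_two h2).pow (n := k)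
  have h3 : innD (Fin 2) F g ^ 2 ∈ Inn (PSL2 F) := by
    rw [← map_pow, Recog.Semi.innD_mem_inn, map_pow]
    exact ⟨_, sq _⟩
  rw [hm, pow_succ, pow_mul] at hβ
  rw [eq_inv_of_mul_eq_one_right hβ]
  exact Subgroup.inv_mem _ (Subgroup.pow_mem _ h3 _)

end Cfsg.Lib.WalCor
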