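import Cfsg.Agent.WalCor.PSL2Fix
import Cfsg.Agent.Bender.TwoRank

/-!
Groups in which abelian subgroups of the same order are conjugate.
-/

set_option autoImplicit false

open Cfsg Cfsg.Lib.Known Cfsg.Lib.Known.GL2 Matrix Subgroup

namespace Cfsg.Lib.WalCor

section General

variable {G : Type*} [Group G]

theorem card_four {x y : G} (hx : orderOf x = 2) (hy : orderOf y = 2) (hxy : x ≠ y)
    (hc : x * y = y * x) : Nat.card (closure ({x, y} : Set G)) = 4 := by
  have hx2 : x * x = 1 := by rw [← sq, ← hx, pow_orderOf_eq_one]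
  have hy2 : y * y = 1 := by rw [← sq, ← hy, pow_orderOf_eq_one]
  have hx1 : x ≠ 1 := fun e => by simp [e] at hx
  have hy1 : y ≠ 1 := fun e => by simp [e] at hy
  have h1 : (closure ({x, y} : Set G) : Set G) = {1, x, y, x * y} := by
    ext a
    refine ⟨fun ha => Bender.mem_closure_pair_of_commute hx2 hy2 hc ha, ?_⟩
    have h2 : x ∈ closure ({x, y} : Set G) := subset_closure (by simp)
    have h3 : y ∈ closure ({x, y} : Set G) := subset_closure (by simp)
    rintro (rfl | rfl | rfl | rfl)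
    exacts [one_mem _, h2, h3, mul_mem h2 h3]
  have h2 : 1 ≠ x * y := fun e => hxy (mul_left_cancel (hx2.trans e))
  change Nat.card (closure ({x, y} : Set G) : Set G) = 4
  rw [h1, Nat.card_coe_set_eq, Set.ncard_insert_of_notMem (by simp [hx1.symm, hy1.symm, h2]),
    Set.ncard_insert_of_notMem (by simp [hxy, hy1]), Set.ncard_pair (by simpa using hx1)]

/-- Abelian subgroups of the same order are conjugate. -/
def ConjAb (G : Type*) [Group G] : Prop :=
  ∀ A B : Subgroup G, IsMulCommutative A → IsMulCommutative B → Nat.card A = Nat.card B →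
    ∃ g : G, B = A.map (MulAut.conj g).toMonoidHom

theorem ConjAb.pow_eq_one [Finite G] (h : ConjAb G) {p : ℕ} [hp : Fact p.Prime] {E : Subgroup G}
    (hE : IsMulCommutative E) (hE' : ∀ x ∈ E, x ^ p = 1) (hd : p ^ 2 ∣ Nat.card E) {y : G} {k : ℕ}
    (hy : y ^ p ^ k = 1) : y ^ p = 1 := by
  by_contra hn
  obtain ⟨j, -, hj⟩ := (Nat.dvd_prime_pow hp.out).1 (orderOf_dvd_of_pow_eq_one hy)
  have h2 : p ^ 2 ∣ orderOf y := by
    rw [hj]
    refine pow_dvd_pow _ (not_lt.1 fun hl => hn (orderOf_dvd_iff_pow_eq_one.1 ?_))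
    rw [hj]
    exact (pow_dvd_pow _ (by omega)).trans (pow_one p).dvd
  have h3 := orderOf_pow_orderOf_div (orderOf_pos y).ne' h2
  obtain ⟨K, hK⟩ := Sylow.exists_subgroup_card_pow_prime p hd
  obtain ⟨g, hg⟩ := h (K.map E.subtype) (zpowers (y ^ (orderOf y / p ^ 2))) inferInstance
    inferInstance (by rw [card_map_of_injective E.subtype_injective, hK, Nat.card_zpowers, h3])
  obtain ⟨_, ⟨x, -, rfl⟩, e⟩ := hg.le (mem_zpowers _)
  have h4 : p ^ 2 ∣ p := by
    rw [← h3, orderOf_dvd_iff_pow_eq_one, ← e, ← map_pow, hE' (E.subtype x) x.2, map_one]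
  have := Nat.le_of_dvd hp.out.pos h4
  have := hp.out.one_lt
  nlinarith

theorem ConjAb.four (h : ConjAb G) {x y x' y' : G} (hx : orderOf x = 2) (hy : orderOf y = 2)
    (hxy : x ≠ y) (hc : x * y = y * x) (hx' : orderOf x' = 2) (hy' : orderOf y' = 2)
    (hxy' : x' ≠ y') (hc' : x' * y' = y' * x') :
    ∃ g, ∃ a ∈ closure ({x, y} : Set G), ∃ b ∈ closure ({x, y} : Set G),
      g * a * g⁻¹ = x' ∧ g * b * g⁻¹ = y' := by
  obtain ⟨g, hg⟩ := h _ _ (Bender.four_group hx hy hxy hc).1 (Bender.four_group hx' hy' hxy' hc').1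
    ((card_four hx hy hxy hc).trans (card_four hx' hy' hxy' hc').symm)
  obtain ⟨a, ha, e⟩ := hg.le (subset_closure (by simp) : x' ∈ _)
  obtain ⟨b, hb, e'⟩ := hg.le (subset_closure (by simp) : y' ∈ _)
  exact ⟨g, a, ha, b, hb, e, e'⟩

end General

variable {F : Type*} [Field F]

/-- The unipotent upper triangular subgroup of `L₂(q)`. -/
noncomputable def uHom (F : Type*) [Field F] : Multiplicative F →* PSL2 F :=
  MonoidHom.mk' (fun c => piSL F ((slLin F).u c.toAdd)) fun a b => by
    rw [toAdd_mul, Lin2.u_add, map_mul]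

theorem neg_eq_self_SL (h2 : (2 : F) = 0) (s : SL2 F) : -s = s := by
  ext i j
  change -(s.1 i j) = s.1 i j
  linear_combination (-(s.1 i j)) * h2

theorem uHom_injective (h2 : (2 : F) = 0) : Function.Injective (uHom F) := fun a b h => by
  rcases piSL_eq_iff.1 h with e | e
  · exact (slLin F).u_injective e
  · exact (slLin F).u_injective (e.trans (neg_eq_self_SL h2 _))

theorem aut_u [Finite F] (h2 : (2 : F) = 0) (β : MulAut (PSL2 F)) {a b x y : F} (hx : x ≠ 0)
    (h1 : β (uHom F (.ofAdd a)) = uHom F (.ofAdd x))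
    (h1' : β (uHom F (.ofAdd b)) = uHom F (.ofAdd y)) : ∃ σ : RingAut F, y * σ a = x * σ b := by
  obtain ⟨g, σ, rfl⟩ := PSL_aut_eq_two β
  have key : ∀ a x : F, (innD (Fin 2) F g * fieldAut (Fin 2) F σ) (uHom F (.ofAdd a)) =
      uHom F (.ofAdd x) → (g : M2 F) * !![1, σ a; 0, 1] = !![1, x; 0, 1] * (g : M2 F) := by
    intro a x h
    have h3 : conjSL (Fin 2) F g (fieldSL (Fin 2) F σ ((slLin F).u a)) = (slLin F).u x := by
      rcases piSL_eq_iff.1 h with e | e
      · exact e
      · exact e.trans (neg_eq_self_SL h2 _)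
    have h4 := mul_eq_of_conjSL h3
    rw [coe_fieldSL, ← slLin_ρ, ← slLin_ρ, Lin2.ρ_u, Lin2.ρ_u] at h4
    convert h4 using 2
    ext i j; fin_cases i <;> fin_cases j <;> simp
  have k1 := key a x h1
  have k2 := key b y h1'
  have a1 : (g : M2 F) 1 0 = 0 := by
    simpa [mul_apply, Fin.sum_univ_two, hx] using congrFun (congrFun k1 0) 0
  have a3 : (g : M2 F) 0 0 ≠ 0 := fun e => g.det_ne_zero (by rw [det_fin_two, a1, e]; ring)
  have a4 := congrFun (congrFun k1 0) 1
  have a5 := congrFun (congrFun k2 0) 1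
  simp [mul_apply, Fin.sum_univ_two] at a4 a5
  exact ⟨σ, mul_left_cancel₀ a3 (by linear_combination y * a4 - x * a5)⟩

theorem exp_of_conj [Fintype F] {f : ℕ} (hf : 2 ≤ f) (hF : Fintype.card F = 2 ^ f)
    (h : ∀ a t : F, a ≠ 0 → a ≠ 1 → t ≠ 0 → t ≠ 1 → ∃ σ : RingAut F,
      ∃ v ∈ ({1, a, 1 + a} : Set F), ∃ v' ∈ ({1, a, 1 + a} : Set F), t = σ (v' / v)) :
    f = 2 ∨ f = 3 ∨ f = 5 := by
  classical
  have h4 : 4 ≤ Fintype.card F := by
    rw [hF]; exact (Nat.pow_le_pow_right two_pos hf : 2 ^ 2 ≤ _)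
  have hc : ringChar F = 2 := FiniteField.even_card_iff_char_two.2 (by
    obtain ⟨k, rfl⟩ := Nat.exists_eq_add_of_le hf
    rw [hF, pow_add]; omega)
  have h2 : (2 : F) = 0 := by
    have := ringChar.charP F
    exact_mod_cast hc ▸ CharP.cast_eq_zero F (ringChar F)
  have hle : f ≤ 6 := by
    obtain ⟨a, ha⟩ : ∃ a : F, a ∉ ({0, 1} : Finset F) := by
      by_contra hn
      push Not at hn
      have := Finset.card_le_card (fun x _ => hn x : Finset.univ ⊆ _)
      have := Finset.card_le_two (a := (0 : F)) (b := 1)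
      simp only [Finset.card_univ] at *
      omega
    simp only [Finset.mem_insert, Finset.mem_singleton, not_or] at ha
    have := Fact.mk Nat.prime_two
    have hA := card_ringAut hF
    have : Finite (RingAut F) := Nat.finite_of_card_ne_zero (by omega)
    have := Fintype.ofFinite (RingAut F)
    let V : Finset F := {1, a, 1 + a}
    have h5 : (Finset.univ : Finset F) ⊆ {0, 1} ∪
        (Finset.univ ×ˢ V ×ˢ V).image fun z : RingAut F × F × F => z.1 (z.2.2 / z.2.1) := by
      intro t _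
      by_cases h0 : t = 0
      · simp [h0]
      by_cases h1 : t = 1
      · simp [h1]
      obtain ⟨σ, v, hv, v', hv', e⟩ := h a t ha.1 ha.2 h0 h1
      refine Finset.mem_union_right _ (Finset.mem_image.2 ⟨(σ, v, v'), ?_, e.symm⟩)
      simpa [V] using And.intro hv hv'
    have h6 := (Finset.card_le_card h5).trans ((Finset.card_union_le _ _).trans
      (add_le_add Finset.card_le_two Finset.card_image_le))
    have h7 : V.card ≤ 3 := Finset.card_le_three
    rw [Finset.card_product, Finset.card_product, Finset.card_univ, Finset.card_univ, hF,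
      ← Nat.card_eq_fintype_card, hA] at h6
    have h8 : 2 ^ f ≤ 2 + f * 9 := h6.trans (by gcongr; nlinarith)
    by_contra hn
    obtain ⟨k, rfl⟩ := Nat.exists_eq_add_of_le (by omega : 7 ≤ f)
    have := Nat.lt_two_pow_self (n := k)
    rw [pow_add] at h8
    omega
  have hev : Even f → f = 2 := fun ⟨k, hk⟩ => by
    have h3 : 3 ∣ Nat.card Fˣ := by
      rw [Nat.card_units, Nat.card_eq_fintype_card, hF, hk, ← two_mul, pow_mul]
      simpa using Nat.sub_dvd_pow_sub_pow 4 1 k
    have := Fact.mk Nat.prime_three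
    obtain ⟨w, hw⟩ := exists_prime_orderOf_dvd_card' 3 h3
    have hw1 : (w : F) ≠ 1 := fun e => by simp [Units.val_eq_one.1 e] at hw
    have hw3 : (w : F) ^ 3 = 1 := by rw [← Units.val_pow_eq_pow_val, ← hw, pow_orderOf_eq_one]; rfl
    have hw2 : (w : F) ^ 2 + w + 1 = 0 :=
      mul_left_cancel₀ (sub_ne_zero.2 hw1) (by linear_combination hw3)
    have hV : ∀ v ∈ ({1, (w : F), 1 + (w : F)} : Set F), v ^ 3 = 1 := by
      rintro v (rfl | rfl | rfl)
      · exact one_pow _
      · exact hw3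
      · linear_combination hw3 + 3 * hw2 - h2
    have h5 : ∀ t : Fˣ, t ^ 3 = 1 := fun t => Units.ext (by
      by_cases h1 : (t : F) = 1
      · simp [h1]
      obtain ⟨σ, v, hv, v', hv', e⟩ := h w t w.ne_zero hw1 t.ne_zero h1
      rw [Units.val_pow_eq_pow_val, e, ← map_pow, div_pow, hV v hv, hV v' hv']
      simp)
    have h6 := Nat.le_of_dvd three_pos (Monoid.exponent_dvd_of_forall_pow_eq_one h5)
    rw [IsCyclic.exponent_eq_card, Nat.card_units, Nat.card_eq_fintype_card, hF] at h6
    by_contra hn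
    have := Nat.pow_le_pow_right two_pos (by omega : 3 ≤ f)
    omega
  interval_cases f <;> simp_all [Nat.even_iff]

end Cfsg.Lib.WalCor
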