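import Cfsg.Agent.Block.AbTwoReal
import Cfsg.Agent.Char.Burnside
import Cfsg.Agent.Char.FullyRam
import Cfsg.Agent.Local.InvolCount
import Cfsg.Agent.Solv.MinNonClosed
import Cfsg.Agent.Perm.FCStruct
import Cfsg.Agent.CITCor.AbCent
import Cfsg.Agent.FT.Final
import Cfsg.Agent.Known.PSL2Klein
import Cfsg.Agent.S0806

/-!
A perfect group with abelian Sylow 2-subgroups has no proper subgroup whose index is a power of two.
-/

set_option autoImplicit false

open Cfsg Cfsg.Agent Cfsg.Lib.Block.AbTwo Cfsg.Lib.Known.GL2 Subgroup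

namespace Cfsg.Lib.WalCor

universe u

section General

variable {G : Type*} [Group G] [Finite G]

theorem relIndex_eq_of_coprime {H K : Subgroup G} (h : H.index.Coprime K.index) :
    H.relIndex K = H.index := by
  have h1 : H.index ∣ H.relIndex K * K.index := by
    rw [← inf_relIndex_right, relIndex_mul_index inf_le_right]
    exact index_dvd_of_le inf_le_left
  refine le_antisymm ?_ (Nat.le_of_dvd (Nat.pos_of_ne_zero index_ne_zero_of_finite)
    (h.dvd_of_dvd_mul_right h1))
  rw [← relIndex_top_right]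
  exact relIndex_le_of_le_right le_top index_ne_zero_of_finite

theorem eq_top_of_index_dvd_four [IsSimpleGroup G] (hna : ¬ IsMulCommutative G) {H : Subgroup G}
    (hH : H.index ∣ 4) : H = ⊤ := by
  by_contra hn
  have h1 := (Local.card_dvd_factorial_index hn).trans
    (Nat.factorial_dvd_factorial (Nat.le_of_dvd four_pos hH))
  exact hna ⟨⟨IsSimpleGroup.comm_iff_isSolvable.2 (Char.isSolvable_of_card_dvd (a := 3) (b := 1)
    Nat.prime_two Nat.prime_three G h1)⟩⟩

theorem dvd_pow_of_not_dvd {n m b c : ℕ} (h : n ∣ 2 ^ b) (hm : n ∣ m) (hc : ¬ 2 ^ (c + 1) ∣ m) :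
    n ∣ 2 ^ c := by
  obtain ⟨j, -, rfl⟩ := (Nat.dvd_prime_pow Nat.prime_two).1 h
  exact pow_dvd_pow _ (not_lt.1 fun hl => hc ((pow_dvd_pow _ hl).trans hm))

theorem not_dvd_of_sylow {p c : ℕ} [hp : Fact p.Prime] (S : Sylow p G)
    (h : Nat.card (S : Subgroup G) = p ^ c) : ¬ p ^ (c + 1) ∣ Nat.card G := fun h1 => by
  rw [← (S : Subgroup G).index_mul_card, h, pow_succ'] at h1
  exact S.not_dvd_index (Nat.dvd_of_mul_dvd_mul_right (pow_pos hp.out.pos _) h1)

end General

variable [Gate.WB.{u}] {G : Type u} [Group G] [Finite G]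

theorem eq_top_of_simple [IsSimpleGroup G] (hna : ¬ IsMulCommutative G) (hS : Ab2 G)
    {H : Subgroup G} {b : ℕ} (hH : H.index ∣ 2 ^ b) : H = ⊤ := by
  have := Fact.mk Nat.prime_two
  rcases Gate.WB.out hna hS with ⟨a, ha, F, _, _, hF, ⟨e⟩⟩ | ⟨F, _, _, h1, -, ⟨e⟩⟩ | ⟨h8, -, hC⟩
  · by_contra hn
    obtain ⟨k, rfl⟩ := Nat.exists_eq_add_of_le ha
    have hc : ringChar F = 2 := FiniteField.even_card_iff_char_two.2 (by rw [hF, pow_add]; omega)
    have h2 : (2 : F) = 0 := by
      have := ringChar.charP F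
      exact_mod_cast hc ▸ CharP.cast_eq_zero F (ringChar F)
    have h3 := (S0806.result hF (by
      have := Nat.one_le_two_pow (n := k)
      rw [pow_add]; simp only [Finset.mem_insert, Finset.mem_singleton]; omega)).1
      (H.map e.toMonoidHom) fun h => hn (by
        rw [← comap_map_eq_self_of_injective (f := e.toMonoidHom) e.injective H, h, comap_top])
    rw [index_map_of_bijective e.bijective] at h3
    have h4 := dvd_pow_of_not_dvd (c := 2 + k) hH H.index_dvd_card (by
      rw [Nat.card_congr e.toEquiv, CITCor.card_psl2_even h2, hF, mul_assoc, pow_succ]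
      refine fun h => ?_
      have h5 := Nat.dvd_of_mul_dvd_mul_left (by positivity) h
      have := Nat.one_le_two_pow (n := k)
      rw [Nat.prime_two.dvd_mul, pow_add] at h5
      omega)
    have := Nat.le_of_dvd (by positivity) h4
    omega
  · have h2 : (2 : F) ≠ 0 := fun h2 => by
      have := FiniteField.even_card_iff_char_two.1
        (ringChar.eq_iff.2 (CharTwo.of_one_ne_zero_of_two_eq_zero one_ne_zero h2))
      omega
    have := finite_PSL2 (F := F)
    obtain ⟨T⟩ : Nonempty (Sylow 2 (PSL2 F)) := inferInstance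
    refine eq_top_of_index_dvd_four hna (dvd_pow_of_not_dvd (c := 2) hH H.index_dvd_card ?_)
    rw [Nat.card_congr e.toEquiv]
    exact not_dvd_of_sylow T (two_pow_dvd_card_PSL2 h2 h1 T)
  · obtain ⟨t, ht⟩ := exists_inv_simple hna
    obtain ⟨-, E, hE, F, _, _, hF, hF3, N, hN, ⟨e⟩, -⟩ := hC t ht
    obtain ⟨S⟩ : Nonempty (Sylow 2 G) := inferInstance
    have h16 := not_dvd_of_sylow (c := 3) S (h8 S).1
    have h1 := dvd_pow_of_not_dvd hH H.index_dvd_card h16
    obtain ⟨-, -, g, hg, hg'⟩ := jr_data S (h8 S).1 ht hE hF e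
    have hEn : (E.subgroupOf (centralizer ({t} : Set G))).Normal :=
      normal_of_index_eq_two (by
        have h2 := (E.subgroupOf (centralizer ({t} : Set G))).index_mul_card
        rw [card_eq_two_mul_of_prod ht hE, Nat.card_congr (subgroupOfEquivOfLe hE.2.1).toEquiv] at h2
        exact Nat.eq_of_mul_eq_mul_right Nat.card_pos h2)
    have h2 : H.relIndex (centralizer ({t} : Set G)) ∣ 2 ^ b := by
      rw [relIndex_eq_of_coprime]
      · exact hH
      · exact (((Nat.prime_two.coprime_iff_not_dvd).2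
          (hS.not_dvd_index ⟨1, ht⟩)).pow_left b).coprime_dvd_left hH
    have h3 : H.relIndex E ∣ 2 ^ b := by
      rw [← relIndex_subgroupOf hE.2.1]
      exact (Char.relIndex_dvd_index_of_normal_right' _ _).trans h2
    have h4 := (Char.relIndex_dvd_index_of_normal_right' (H.subgroupOf E) N).trans h3
    have hs := Matrix.ProjectiveSpecialLinearGroup.rank_two_simple (F := F)
      (by rwa [Nat.card_eq_fintype_card])
    have hs' : IsSimpleGroup N := e.isSimpleGroup
    have h5 : 4 ∣ Nat.card N := by
      rw [Nat.card_congr e.toEquiv]; exact (Block.L2Real.four_dvd_card hF).1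
    have h6 := eq_top_of_index_dvd_four (G := N) (fun hc => by
      let : CommGroup N := { (inferInstance : Group N) with mul_comm := hc.is_comm.comm }
      have := (Nat.dvd_prime (IsSimpleGroup.prime_card (α := N))).1 h5
      rcases this with h | h
      · omega
      · exact absurd (h ▸ IsSimpleGroup.prime_card (α := N)) (by norm_num))
      (dvd_pow_of_not_dvd (c := 2) h4 (index_dvd_card _) fun h => by
        have := h.trans (card_subgroup_dvd_card N)
        rw [hg'] at this
        obtain ⟨c, rfl⟩ := hg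
        omega)
    have h7 : 4 ∣ Nat.card H := by
      refine h5.trans ?_
      rw [← card_map_of_injective E.subtype_injective]
      refine card_dvd_of_le ?_
      rintro _ ⟨x, hx, rfl⟩
      exact (h6.ge (mem_top (⟨x, hx⟩ : N)) :)
    refine eq_top_of_index_dvd_four hna ?_
    obtain ⟨j, hj, hj'⟩ := (Nat.dvd_prime_pow Nat.prime_two).1 h1
    rw [hj']
    refine pow_dvd_pow 2 (not_lt.1 fun h => h16 ?_ : j ≤ 2)
    rw [← H.index_mul_card, hj', (by omega : j = 3)]
    exact Nat.mul_dvd_mul_left _ ((by norm_num : 2 ∣ 4).trans h7)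

omit [Gate.WB.{u}] in
theorem le_center_of_perfect [Group.IsPerfect G] (hS : Ab2 G) {A : Subgroup G} [A.Normal]
    (hA : IsPGroup 2 A) : A ≤ center G :=
  le_center_of_isPGroup hS (fun N _ hN => by
    have := FT.odd_order_solvable (G := G ⧸ N) (Nat.not_even_iff_odd.1 (even_iff_two_dvd.not.2 hN))
    exact Perm.eq_top_of_isPerfect) hA

omit [Group G] [Finite G] in
theorem eq_top_aux (n : ℕ) : ∀ (G : Type u) [Group G] [Finite G] [Group.IsPerfect G],
    Nat.card G = n → Ab2 G → ∀ (H : Subgroup G) (b : ℕ), H.index ∣ 2 ^ b → H = ⊤ := by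
  induction n using Nat.strong_induction_on with
  | _ n ih =>
  intro G _ _ _ hn hS H b hH
  rcases subsingleton_or_nontrivial G with h | h
  · exact Subsingleton.elim _ _
  by_cases hs : IsSimpleGroup G
  · exact eq_top_of_simple (Group.IsPerfect.not_isMulCommutative G) hS hH
  obtain ⟨L, hL, hLt⟩ := Solv.exists_isMinNormal_ne_top hs
  have := hL.normal
  have h1 : L ⊔ H = ⊤ := by
    have h1 := ih _ (hn ▸ Solv.card_quotient_lt hL.ne_bot) (G ⧸ L) rfl
      (hS.of_surjective _ (QuotientGroup.mk'_surjective L)) (H.map (QuotientGroup.mk' L)) b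
      ((index_map_dvd _ (QuotientGroup.mk'_surjective L)).trans hH)
    rw [← QuotientGroup.comap_map_mk', h1, comap_top]
  suffices L ≤ H by rwa [sup_eq_right.2 this] at h1
  have h2 := (Char.relIndex_dvd_index_of_normal_right' H L).trans hH
  rcases hL.min ⁅L, L⁆ inferInstance (commutator_le_left _ _) with h3 | h3
  · have hc : ∀ x ∈ L, ∀ y ∈ L, x * y = y * x := fun x hx y hy =>
      commutatorElement_eq_one_iff_mul_comm.1 (h3.le (commutator_mem_commutator hx hy))
    have h4 : (H ⊓ L).Normal := by
      rw [← normalizer_eq_top_iff, eq_top_iff, ← h1]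
      refine sup_le (fun x hx => mem_normalizer_fintype fun y hy => ?_)
        fun x hx => mem_normalizer_fintype fun y hy => ?_
      · rwa [hc x hx y hy.2, mul_inv_cancel_right]
      · exact ⟨H.mul_mem (H.mul_mem hx hy.1) (H.inv_mem hx), this.conj_mem y hy.2 x⟩
    rcases hL.min _ h4 inf_le_right with h5 | h5
    · have h6 : L ≤ center G := le_center_of_perfect hS (IsPGroup.of_card_dvd_pow (n := b) (by
        rwa [← inf_relIndex_right, h5, relIndex_bot_left] at h2))
      have h7 : H.Normal := by
        rw [← normalizer_eq_top_iff, eq_top_iff, ← h1]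
        exact sup_le (h6.trans (center_le_normalizer _)) le_normalizer
      have := Fact.mk Nat.prime_two
      have := (IsPGroup.of_card_dvd_pow (G := G ⧸ H) hH).isNilpotent
      rw [Perm.eq_top_of_isPerfect (N := H)]
      exact le_top
    · exact h5.ge.trans inf_le_left
  · have := isPerfect_iff.2 h3
    exact subgroupOf_eq_top.1 (ih _ (hn ▸ Solv.card_lt_of_ne_top hLt) L rfl (hS.subgroup L) _ b h2)

theorem eq_top_of_perfect [Group.IsPerfect G] (hS : Ab2 G) {H : Subgroup G} {b : ℕ}
    (hH : H.index ∣ 2 ^ b) : H = ⊤ :=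
  eq_top_aux _ G rfl hS H b hH

end Cfsg.Lib.WalCor
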