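import Cfsg.Agent.WalCor.ConjAb
import Cfsg.Agent.Solv.Cores
import Cfsg.Agent.Perm.Socle
import Cfsg.Agent.FT.Final
import Mathlib.GroupTheory.SpecificGroups.ZGroup

/-!
Groups in which subgroups of the same prime power order are conjugate: general facts.
-/

set_option autoImplicit false

open Cfsg Cfsg.Lib.Solv Cfsg.Lib.Perm.Socle Subgroup Pointwise
open Cfsg.Lib.Chev.RankOne (TwoRank)

namespace Cfsg.Lib.WalCor

variable {G : Type*} [Group G]

/-- `p`-subgroups of the same order are conjugate. -/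
def DG (G : Type*) [Group G] : Prop :=
  ∀ p : ℕ, p.Prime → ∀ H K : Subgroup G, IsPGroup p H → IsPGroup p K → Nat.card H = Nat.card K →
    ∃ g : G, K = H.map (MulAut.conj g).toMonoidHom

theorem exists_pgroup_map_eq [Finite G] {Q : Type*} [Group Q] {f : G →* Q}
    (hf : Function.Surjective f) {p : ℕ} [Fact p.Prime] {H : Subgroup Q} (hH : IsPGroup p H) :
    ∃ P : Subgroup G, IsPGroup p P ∧ P.map f = H ∧
      Nat.card P = p ^ (Nat.card H * Nat.card f.ker).factorization p := by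
  have := Finite.of_surjective f hf
  obtain ⟨P⟩ : Nonempty (Sylow p (H.comap f)) := inferInstance
  have hs := f.subgroupComap_surjective_of_surjective H hf
  have h1 : ((P.mapSurjective hs : Sylow p H) : Subgroup H) = ⊤ :=
    ((P.mapSurjective hs).is_maximal' (hH.to_subgroup ⊤) le_top).symm
  refine ⟨(P : Subgroup (H.comap f)).map (H.comap f).subtype, P.isPGroup'.map _, ?_, ?_⟩
  · rw [map_map, show f.comp (H.comap f).subtype = H.subtype.comp (f.subgroupComap H) from rfl,
      ← map_map, ← Sylow.coe_mapSurjective hs, h1, ← MonoidHom.range_eq_map, range_subtype]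
  · rw [card_map_of_injective (subtype_injective _), P.card_eq_multiplicity]
    congr 2
    have h2 := card_eq_card_quotient_mul_card_subgroup (f.subgroupComap H).ker
    rw [h2, Nat.card_congr (QuotientGroup.quotientKerEquivOfSurjective _ hs).toEquiv]
    congr 1
    have h3 : (f.subgroupComap H).ker = f.ker.subgroupOf (H.comap f) := by
      ext x
      exact Subtype.ext_iff
    rw [h3, Nat.card_congr (subgroupOfEquivOfLe (ker_le_comap f H)).toEquiv]

namespace DG

theorem of_surjective [Finite G] (h : DG G) {Q : Type*} [Group Q] {f : G →* Q}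
    (hf : Function.Surjective f) : DG Q := fun p hp H K hH hK e => by
  have := Fact.mk hp
  obtain ⟨P, hP, rfl, h1⟩ := exists_pgroup_map_eq hf hH
  obtain ⟨R, hR, rfl, h2⟩ := exists_pgroup_map_eq hf hK
  obtain ⟨g, rfl⟩ := h p hp P R hP hR (by rw [h1, h2, e])
  refine ⟨f g, ?_⟩
  rw [map_map, map_map]
  congr 1
  ext x
  simp

theorem exists_conj (h : DG G) {p : ℕ} (hp : p.Prime) {H K : Subgroup G} (hH : IsPGroup p H)
    (hK : IsPGroup p K) (e : Nat.card H = Nat.card K) :
    ∃ g : G, ∀ y ∈ K, ∃ x ∈ H, g * x * g⁻¹ = y := by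
  obtain ⟨g, rfl⟩ := h p hp H K hH hK e
  exact ⟨g, fun y hy => hy⟩

theorem le_of_normal (h : DG G) {p : ℕ} (hp : p.Prime) {H K N : Subgroup G} [hN : N.Normal]
    (hH : IsPGroup p H) (hK : IsPGroup p K) (e : Nat.card H = Nat.card K) (hle : H ≤ N) : K ≤ N := by
  obtain ⟨g, hg⟩ := h.exists_conj hp hH hK e
  intro y hy
  obtain ⟨x, hx, rfl⟩ := hg y hy
  exact hN.conj_mem x (hle hx) g

theorem isPGroup_zpowers {p k : ℕ} {x : G} (hx : orderOf x = p ^ k) :
    IsPGroup p (zpowers x) :=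
  IsPGroup.of_card (by rw [Nat.card_zpowers, hx])

theorem conj_invol (h : DG G) {x y : G} (hx : orderOf x = 2) (hy : orderOf y = 2) :
    ∃ g : G, g * x * g⁻¹ = y := by
  have := Fact.mk Nat.prime_two
  obtain ⟨g, hg⟩ := h.exists_conj Nat.prime_two (isPGroup_zpowers (k := 1) hx)
    (isPGroup_zpowers (k := 1) hy) (by rw [Nat.card_zpowers, Nat.card_zpowers, hx, hy])
  obtain ⟨z, hz, e⟩ := hg y (mem_zpowers y)
  refine ⟨g, ?_⟩
  obtain ⟨n, rfl⟩ := mem_zpowers_iff.1 hz
  rw [← zpow_mod_orderOf, hx] at e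
  rcases Int.emod_two_eq_zero_or_one n with h0 | h0
  · rw [Nat.cast_ofNat, h0, zpow_zero, mul_one, mul_inv_cancel] at e
    simp [← e] at hy
  · rwa [Nat.cast_ofNat, h0, zpow_one] at e

theorem pow_eq_one [Finite G] (h : DG G) {p : ℕ} [hp : Fact p.Prime] {E : Subgroup G}
    (hE' : ∀ x ∈ E, x ^ p = 1) (hd : p ^ 2 ∣ Nat.card E) {y : G} {k : ℕ}
    (hy : y ^ p ^ k = 1) : y ^ p = 1 := by
  by_contra hn
  obtain ⟨j, -, hj⟩ := (Nat.dvd_prime_pow hp.out).1 (orderOf_dvd_of_pow_eq_one hy)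
  have h2 : p ^ 2 ∣ orderOf y := by
    rw [hj]
    refine pow_dvd_pow _ (not_lt.1 fun hl => hn (orderOf_dvd_iff_pow_eq_one.1 ?_))
    rw [hj]
    exact (pow_dvd_pow _ (by omega)).trans (pow_one p).dvd
  have h3 := orderOf_pow_orderOf_div (orderOf_pos y).ne' h2
  obtain ⟨K, hK⟩ := Sylow.exists_subgroup_card_pow_prime p hd
  obtain ⟨g, hg⟩ := h.exists_conj hp.out ((IsPGroup.of_card hK).map E.subtype) (isPGroup_zpowers h3)
    (by rw [card_map_of_injective E.subtype_injective, hK, Nat.card_zpowers, h3])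
  obtain ⟨_, ⟨x, -, rfl⟩, e⟩ := hg _ (mem_zpowers _)
  have h4 : p ^ 2 ∣ p := by
    rw [← h3, orderOf_dvd_iff_pow_eq_one, ← e, conj_pow, hE' (E.subtype x) x.2]
    simp
  have := Nat.le_of_dvd hp.out.pos h4
  have := hp.out.one_lt
  nlinarith

/-- A normal subgroup of prime index forces cyclic Sylow subgroups. -/
theorem isCyclic_of_index [Finite G] (h : DG G) {p : ℕ} [hp : Fact p.Prime] {N : Subgroup G}
    [N.Normal] (hN : N.index = p) (R : Sylow p G) : IsCyclic (R : Subgroup G) := by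
  have hR : ¬ (R : Subgroup G) ≤ N := fun hle =>
    R.not_dvd_index (hN.symm.dvd.trans (index_dvd_of_le hle))
  obtain ⟨x, hx, hxN⟩ := SetLike.not_le_iff_exists.1 hR
  obtain ⟨n, hn⟩ := IsPGroup.iff_card.1 R.isPGroup'
  have h1 : (N.subgroupOf R).index = p := by
    have h2 : N.relIndex R ∣ p := (relIndex_dvd_index_of_normal N R).trans hN.dvd
    exact ((Nat.dvd_prime hp.out).1 h2).resolve_left fun e => hR (relIndex_eq_one.1 e)
  have h2 := (N.subgroupOf R).card_mul_index
  rw [h1, hn] at h2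
  obtain ⟨m, rfl⟩ : ∃ m, n = m + 1 := by
    rcases n with _ | m
    · exact absurd (Nat.eq_one_of_mul_eq_one_left h2) hp.out.one_lt.ne'
    · exact ⟨m, rfl⟩
  have h3 : Nat.card (N.subgroupOf R) = p ^ m :=
    Nat.eq_of_mul_eq_mul_right hp.out.pos (h2.trans (pow_succ p m))
  by_contra hc
  obtain ⟨j, hj⟩ := IsPGroup.iff_card.1 (R.isPGroup'.to_subgroup (zpowers ⟨x, hx⟩))
  have hjm : j ≤ m := by
    by_contra hl
    refine hc (isCyclic_iff_exists_zpowers_eq_top.2 ⟨⟨x, hx⟩, eq_top_of_le_card _ ?_⟩)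
    rw [hj, hn]
    exact Nat.pow_le_pow_right hp.out.pos (by omega)
  obtain ⟨K, hK, hle⟩ := Sylow.exists_subgroup_card_pow_prime_le p
    (show p ^ m ∣ Nat.card (R : Subgroup G) by rw [hn]; exact pow_dvd_pow _ (by omega)) _ hj hjm
  refine hxN (h.le_of_normal hp.out ((IsPGroup.of_card h3).map (R : Subgroup G).subtype)
    ((IsPGroup.of_card hK).map (R : Subgroup G).subtype) ?_ ?_ ⟨_, hle (mem_zpowers _), rfl⟩)
  · rw [card_map_of_injective (subtype_injective _), card_map_of_injective (subtype_injective _),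
      h3, hK]
  · rintro _ ⟨y, hy, rfl⟩
    exact hy

/-- A perfect normal subgroup of prime index has order prime to the index. -/
theorem not_dvd_of_index [Finite G] (h : DG G) {p : ℕ} [hp : Fact p.Prime] {N : Subgroup G}
    [N.Normal] (hN : N.index = p) (hperf : ⁅N, N⁆ = N) : ¬ p ∣ Nat.card N := by
  obtain ⟨R⟩ : Nonempty (Sylow p G) := inferInstance
  have := h.isCyclic_of_index hN R
  have h1 : commutator G = N := by
    refine le_antisymm ?_ (hperf ▸ commutator_mono le_top le_top)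
    have : IsCyclic (G ⧸ N) := isCyclic_of_prime_card hN
    exact (Subgroup.Normal.quotient_commutative_iff_commutator_le).1 inferInstance
  rcases R.not_dvd_card_commutator_or_not_dvd_index_commutator with h2 | h2
  · rwa [h1] at h2
  · rw [h1, hN] at h2
    exact absurd dvd_rfl h2

/-- exponent two -/
theorem sq_eq_one [Finite G] (h : DG G) (h2 : TwoRank G) {y : G} {k : ℕ}
    (hy : y ^ 2 ^ k = 1) : y * y = 1 := by
  have := Fact.mk Nat.prime_two
  obtain ⟨a, b, ha, hb, hab, hc⟩ := Bender.twoRank_iff.1 h2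
  rw [← sq]
  exact h.pow_eq_one (E := closure {a, b})
    (fun z hz => by rw [sq, (Bender.four_group ha hb hab hc).2.2.1 z hz])
    (by rw [card_four ha hb hab hc]; norm_num) hy

theorem sq_of_pgroup [Finite G] (h : DG G) (h2 : TwoRank G) {S : Subgroup G}
    (hS : IsPGroup 2 S) {y : G} (hy : y ∈ S) : y * y = 1 := by
  obtain ⟨k, hk⟩ := hS ⟨y, hy⟩
  exact h.sq_eq_one h2 (congrArg Subtype.val hk)

theorem comm_of_pgroup [Finite G] (h : DG G) (h2 : TwoRank G) {S : Subgroup G}
    (hS : IsPGroup 2 S) {a b : G} (ha : a ∈ S) (hb : b ∈ S) : a * b = b * a := by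
  rw [← inv_eq_of_mul_eq_one_right (h.sq_of_pgroup h2 hS (mul_mem ha hb)), mul_inv_rev,
    inv_eq_of_mul_eq_one_right (h.sq_of_pgroup h2 hS ha),
    inv_eq_of_mul_eq_one_right (h.sq_of_pgroup h2 hS hb)]

/-- a nontrivial normal subgroup contains all involutions -/
theorem mem_of_normal [Finite G] (h : DG G) (hO : oddCore G = ⊥) {N : Subgroup G} [hN : N.Normal]
    (h0 : N ≠ ⊥) {y : G} (hy : y * y = 1) : y ∈ N := by
  have := Fact.mk Nat.prime_two
  by_cases hy1 : y = 1
  · exact hy1 ▸ one_mem N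
  have h2 : 2 ∣ Nat.card N := by
    by_contra hn
    exact h0 (le_bot_iff.1 (hO ▸ le_pPrimeCore hN
      ((Nat.Prime.coprime_iff_not_dvd Nat.prime_two).2 hn).symm))
  obtain ⟨x, hx⟩ := exists_prime_orderOf_dvd_card' 2 h2
  obtain ⟨g, rfl⟩ := h.conj_invol ((orderOf_coe x).trans hx) (Bender.orderOf_eq_two hy1 hy)
  exact hN.conj_mem _ x.2 g

/-- the structure of a minimal normal subgroup -/
theorem minN_cases [Finite G] (h : DG G) (hO : oddCore G = ⊥) (h2 : TwoRank G) :
    ∃ N : Subgroup G, N.Normal ∧ Odd N.index ∧ (∀ y : G, y * y = 1 → y ∈ N) ∧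
      ((∀ y ∈ N, y * y = 1) ∨
        IsSimpleGroup N ∧ ¬ IsMulCommutative N ∧ centralizer (N : Set G) = ⊥) := by
  have := Fact.mk Nat.prime_two
  obtain ⟨a, b, ha, -, hab, -⟩ := Bender.twoRank_iff.1 h2
  have : Nontrivial G := ⟨a, b, hab⟩
  obtain ⟨N, hN, -⟩ := exists_minN (⊤ : Subgroup G) top_ne_bot
  have := hN.normal
  have hmem : ∀ y : G, y * y = 1 → y ∈ N := fun y => h.mem_of_normal hO hN.ne
  have ha2 : a * a = 1 := by rw [← sq, ← ha, pow_orderOf_eq_one]
  have ha1 : a ≠ 1 := fun e => by simp [e] at ha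
  obtain ⟨S⟩ : Nonempty (Sylow 2 G) := inferInstance
  refine ⟨N, hN.normal, ?_, hmem, ?_⟩
  · rw [← Nat.not_even_iff_odd, even_iff_two_dvd]
    exact fun e => S.not_dvd_index (e.trans (index_dvd_of_le fun y hy =>
      hmem y (h.sq_of_pgroup h2 S.isPGroup' hy)))
  by_cases hc : IsMulCommutative N
  · left
    have hcm : ∀ x ∈ N, ∀ y ∈ N, x * y = y * x := fun x hx y hy =>
      congrArg Subtype.val (hc.1.1 ⟨x, hx⟩ ⟨y, hy⟩)
    let M : Subgroup G :=
      { carrier := {y | y ∈ N ∧ y * y = 1}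
        mul_mem' := fun {x y} hx hy => ⟨mul_mem hx.1 hy.1, by
          rw [mul_assoc, ← mul_assoc y, ← hcm x hx.1 y hy.1, mul_assoc x y, hy.2, mul_one, hx.2]⟩
        one_mem' := ⟨one_mem _, mul_one _⟩
        inv_mem' := fun {x} hx => ⟨inv_mem hx.1, by rw [← mul_inv_rev, hx.2, inv_one]⟩ }
    have hM : M.Normal := ⟨fun x hx g => ⟨hN.normal.conj_mem x hx.1 g, by
      rw [conj_mul, hx.2]; simp⟩⟩
    rcases hN.min M hM fun x hx => hx.1 with e | e
    · exact absurd (mem_bot.1 (e ▸ (⟨hmem a ha2, ha2⟩ : a ∈ M))) ha1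
    · exact fun y hy => (e.ge hy).2
  right
  obtain ⟨T, hT⟩ := exists_factor hN.ne
  have hTn : T.Normal := by
    by_contra hn
    obtain ⟨g, hg⟩ := Factor.exists_ne hn
    have hT' := hT.smul g
    have h3 : 2 ∣ Nat.card T := by
      by_contra hn
      exact hT.not_isSolvable hN hc (FT.odd_order_solvable (Nat.not_even_iff_odd.1
        fun e => hn (even_iff_two_dvd.1 e)))
    obtain ⟨⟨x, hxT⟩, hx⟩ := exists_prime_orderOf_dvd_card' 2 h3
    rw [← orderOf_coe] at hx
    have hx2 : x * x = 1 := by rw [← sq, ← hx, pow_orderOf_eq_one]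
    have hx1 : x ≠ 1 := fun e => by simp [e] at hx
    have hy : g * x * g⁻¹ ∈ MulAut.conj g • T := mem_cj.2 (by simpa [mul_assoc] using hxT)
    have hxy := hT.comm hT' hg.symm hxT hy
    have hne : x * (g * x * g⁻¹) ≠ 1 := fun e => hx1 (hT.eq_one_of_mem hT' hg.symm hxT (by
      rw [eq_inv_of_mul_eq_one_left e]; exact inv_mem hy))
    obtain ⟨c, hc'⟩ := h.conj_invol hx (Bender.orderOf_eq_two hne (by
      rw [mul_assoc, ← mul_assoc _ x, ← hxy, mul_assoc x, conj_mul, hx2, ← mul_assoc, hx2]; simp))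
    have hT'' := hT.smul c
    have hz : x * (g * x * g⁻¹) ∈ MulAut.conj c • T := mem_cj.2 (by
      rw [← hc']; simpa [mul_assoc] using hxT)
    by_cases e1 : MulAut.conj c • T = T
    · rw [e1] at hz
      exact hx1 (eq_one_of_conj (hT.eq_one_of_mem hT' hg.symm
        ((mul_mem_cancel_left hxT).1 hz) hy))
    · refine hx1 (hT.eq_one_of_cent hN hc hxT fun s hs => ?_)
      have h5 := hT.comm hT'' (Ne.symm e1) hs hz
      have h6 := hT.comm hT' hg.symm hs hy
      rw [mul_assoc x, ← h6, ← mul_assoc, ← mul_assoc x] at h5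
      exact (mul_right_cancel h5).symm
  obtain rfl := hT.eq_of_normal hN hTn
  refine ⟨hT.isSimpleGroup hN, hc, ?_⟩
  by_contra hne
  have h3 : a ∈ centralizer (T : Set G) := h.mem_of_normal hO hne ha2
  exact ha1 (hT.eq_one_of_cent hN hc (hmem a ha2) fun s hs => (h3 s hs).symm)

end DG

end Cfsg.Lib.WalCor
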